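import Groth.Agent.RegDesc.Basic
import Mathlib.RingTheory.Localization.Integral

/-!
# Generic fibres over finite domains detect regular homomorphisms
-/

set_option autoImplicit false
set_option linter.style.haveILetI false
set_option backward.isDefEq.respectTransparency false
set_option maxHeartbeats 1000000
universe u

open TensorProduct

namespace Groth.Agent.RegDesc

/-- The generic fibre of an algebra over a domain is regular iff the local rings over `⊥` are. -/
theorem isRegularRing_generic_iff (B K T : Type u) [CommRing B] [IsDomain B] [Field K] [Algebra B K]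
    [IsFractionRing B K] [CommRing T] [IsNoetherianRing T] [Algebra B T] :
    IsRegularRing (K ⊗[B] T) ↔
      ∀ (q : Ideal T) [q.IsPrime], q.comap (algebraMap B T) = ⊥ → IsRegularLocalRing (Localization.AtPrime q) := by
  letI : Algebra T (K ⊗[B] T) := Algebra.TensorProduct.rightAlgebra
  let M := Algebra.algebraMapSubmonoid T (nonZeroDivisors B)
  haveI : IsLocalization M (K ⊗[B] T) := inferInstance
  constructor
  · intro h q hq hbot
    have hdisj : Disjoint (M : Set T) (q : Set T) := Set.disjoint_left.2 fun x ⟨s, hs, e⟩ hx => by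
      subst e
      exact nonZeroDivisors.ne_zero hs (Ideal.mem_bot.1 (hbot ▸ hx))
    let N : PrimeSpectrum (K ⊗[B] T) :=
      ⟨q.map (algebraMap _ _), IsLocalization.isPrime_of_isPrime_disjoint M _ q hq hdisj⟩
    have h1 := (RegLocLib.mem_regLocus_iff_of_isLocalization M N).1
      (@IsRegularRing.isRegularLocalRing_localization _ _ h N.asIdeal N.isPrime)
    have h2 : PrimeSpectrum.comap (algebraMap T (K ⊗[B] T)) N = ⟨q, hq⟩ :=
      PrimeSpectrum.ext (IsLocalization.under_map_of_isPrime_disjoint M _ hq hdisj)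
    rw [h2] at h1
    exact h1
  · intro h
    haveI : IsNoetherianRing (K ⊗[B] T) := IsLocalization.isNoetherianRing M _ inferInstance
    refine isRegularRing_iff.2 fun Q hQ => ?_
    refine (RegLocLib.mem_regLocus_iff_of_isLocalization M (⟨Q, hQ⟩ : PrimeSpectrum (K ⊗[B] T))).2 ?_
    refine h (Q.comap (algebraMap T (K ⊗[B] T))) ?_
    rw [eq_bot_iff]
    intro x hx
    by_contra hne
    exact Set.disjoint_left.1 ((IsLocalization.isPrime_iff_isPrime_disjoint M (K ⊗[B] T) Q).1 hQ).2
      ⟨x, mem_nonZeroDivisors_of_ne_zero hne, rfl⟩ hx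

/-- A finite extension of a residue field is the fraction field of a finite domain. -/
theorem exists_finite_subalgebra (A : Type u) [CommRing A] (p : Ideal A) [p.IsPrime] (k' : Type u) [Field k']
    [Algebra p.ResidueField k'] [Algebra A k'] [IsScalarTower A p.ResidueField k'] [Module.Finite p.ResidueField k'] :
    ∃ B : Subalgebra A k', Module.Finite A B ∧ IsFractionRing B k' := by
  classical
  let b := Module.Free.chooseBasis p.ResidueField k'
  letI : Algebra (A ⧸ p) k' := ((algebraMap p.ResidueField k').comp (algebraMap (A ⧸ p) p.ResidueField)).toAlgebra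
  haveI : IsScalarTower (A ⧸ p) p.ResidueField k' := IsScalarTower.of_algebraMap_eq fun _ => rfl
  haveI : IsScalarTower A (A ⧸ p) k' := IsScalarTower.of_algebraMap_eq fun a => by
    rw [IsScalarTower.algebraMap_apply A p.ResidueField k', IsScalarTower.algebraMap_apply A (A ⧸ p) p.ResidueField]
    rfl
  haveI : FaithfulSMul (A ⧸ p) k' := (faithfulSMul_iff_algebraMap_injective _ _).2
    ((algebraMap p.ResidueField k').injective.comp (FaithfulSMul.algebraMap_injective (A ⧸ p) p.ResidueField))
  choose m hm using fun i => IsIntegral.exists_multiple_integral_of_isLocalization (Rₘ := p.ResidueField)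
    (nonZeroDivisors (A ⧸ p)) (b i) (IsIntegral.of_finite p.ResidueField (b i))
  let B := Algebra.adjoin A (Set.range fun i => m i • b i)
  haveI : Module.Finite A B := by
    refine Module.Finite.iff_fg.2 (fg_adjoin_of_finite (Set.finite_range _) ?_)
    rintro _ ⟨i, rfl⟩
    exact isIntegral_trans _ (hm i)
  haveI : FaithfulSMul B k' := (faithfulSMul_iff_algebraMap_injective _ _).2 Subtype.val_injective
  refine ⟨B, inferInstance, IsFractionRing.of_field (R := B) (K := k') fun z => ?_⟩
  suffices h : ∃ x ∈ B, ∃ y ∈ B, y ≠ 0 ∧ z = x / y by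
    obtain ⟨x, hx, y, hy, -, h⟩ := h
    exact ⟨⟨x, hx⟩, ⟨y, hy⟩, h⟩
  rw [← b.sum_repr z]
  refine Finset.sum_induction (fun i => b.repr z i • b i) (fun w => ∃ x ∈ B, ∃ y ∈ B, y ≠ 0 ∧ w = x / y) ?_
    ⟨0, zero_mem B, 1, one_mem B, one_ne_zero, by simp⟩ fun i _ => ?_
  · rintro _ _ ⟨x, hx, y, hy, hy0, rfl⟩ ⟨x', hx', y', hy', hy0', rfl⟩
    exact ⟨x * y' + y * x', add_mem (mul_mem hx hy') (mul_mem hy hx'), y * y', mul_mem hy hy', mul_ne_zero hy0 hy0',
      div_add_div x x' hy0 hy0'⟩
  · obtain ⟨c, ⟨d, hd⟩, hcd⟩ := IsLocalization.exists_mk'_eq (nonZeroDivisors (A ⧸ p)) (b.repr z i)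
    have hA : ∀ a : A ⧸ p, algebraMap (A ⧸ p) k' a ∈ B := fun a => by
      obtain ⟨a, rfl⟩ := Ideal.Quotient.mk_surjective a
      rw [← Ideal.Quotient.algebraMap_eq, ← IsScalarTower.algebraMap_apply]
      exact B.algebraMap_mem a
    have hm0 : algebraMap (A ⧸ p) k' (m i : A ⧸ p) ≠ 0 :=
      (map_ne_zero_iff _ (FaithfulSMul.algebraMap_injective _ _)).2 (nonZeroDivisors.ne_zero (m i).2)
    have hd0 : algebraMap (A ⧸ p) k' d ≠ 0 :=
      (map_ne_zero_iff _ (FaithfulSMul.algebraMap_injective _ _)).2 (nonZeroDivisors.ne_zero hd)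
    refine ⟨algebraMap _ k' c * (m i • b i), mul_mem (hA c) (Algebra.subset_adjoin ⟨i, rfl⟩),
      algebraMap _ k' d * algebraMap _ k' (m i : A ⧸ p), mul_mem (hA d) (hA _), mul_ne_zero hd0 hm0, ?_⟩
    rw [eq_div_iff (mul_ne_zero hd0 hm0), ← hcd, Submonoid.smul_def, Algebra.smul_def (m i : A ⧸ p), Algebra.smul_def]
    have h1 : algebraMap (A ⧸ p) k' c = algebraMap p.ResidueField k' (IsLocalization.mk' p.ResidueField c ⟨d, hd⟩) *
        algebraMap (A ⧸ p) k' d := by
      rw [IsScalarTower.algebraMap_apply (A ⧸ p) p.ResidueField k' c,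
        IsScalarTower.algebraMap_apply (A ⧸ p) p.ResidueField k' d, ← map_mul]
      exact congrArg _ (IsLocalization.mk'_spec _ c ⟨d, hd⟩).symm
    rw [h1]
    ring

/-- Regularity of a flat homomorphism is detected by generic fibres over finite domains. -/
theorem isRegularHom_iff_finite_domains (A C : Type u) [CommRing A] [CommRing C] [IsNoetherianRing C] [Algebra A C]
    [Module.Flat A C] :
    CAlg.IsRegularHom A C ↔ ∀ (B : Type u) [CommRing B] [IsDomain B] [Algebra A B] [Module.Finite A B]
      (q : Ideal (B ⊗[A] C)) [q.IsPrime], q.comap (algebraMap B (B ⊗[A] C)) = ⊥ →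
        IsRegularLocalRing (Localization.AtPrime q) := by
  constructor
  · intro h B _ _ _ _
    haveI : IsNoetherianRing (B ⊗[A] C) := isNoetherianRing_tensor_essFiniteType A B C
    have h1 := isRegularHom_baseChange A C B h
    haveI : IsNoetherianRing (FractionRing B ⊗[B] (B ⊗[A] C)) := isNoetherianRing_tensor_essFiniteType B _ _
    exact (isRegularRing_generic_iff B (FractionRing B) (B ⊗[A] C)).1 (regular_tensor_any_field h1 (FractionRing B))
  · intro h
    refine ⟨inferInstance, fun p _ => ⟨isNoetherianRing_tensor_essFiniteType A _ _, fun k' _ _ hfin => ?_⟩⟩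
    haveI := hfin
    letI : Algebra A k' := ((algebraMap p.ResidueField k').comp (algebraMap A p.ResidueField)).toAlgebra
    haveI : IsScalarTower A p.ResidueField k' := IsScalarTower.of_algebraMap_eq fun _ => rfl
    obtain ⟨B, hB, hfr⟩ := exists_finite_subalgebra A p k'
    haveI := hB
    haveI := hfr
    haveI : IsNoetherianRing (B ⊗[A] C) := isNoetherianRing_tensor_essFiniteType A B C
    haveI := (isRegularRing_generic_iff B k' (B ⊗[A] C)).2 (h B)
    exact IsRegularRing.of_ringEquiv (R := k' ⊗[B] (B ⊗[A] C))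
      ((Algebra.TensorProduct.cancelBaseChange A B k' k' C).toRingEquiv.trans
        (Algebra.TensorProduct.cancelBaseChange A p.ResidueField k' k' C).toRingEquiv.symm)

end Groth.Agent.RegDesc
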