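import Groth.Agent.RegHomLib.Geometric
import Groth.Agent.RegHomLib.Local
import Groth.Agent.FpqcDesc.Stalk
import Mathlib.RingTheory.Nilpotent.GeometricallyReduced

/-!
# Regular rings and regular homomorphisms: descent, base change, composition
-/

set_option autoImplicit false
set_option linter.style.haveILetI false
set_option backward.isDefEq.respectTransparency false
set_option maxHeartbeats 1000000
universe u

open IsLocalRing TensorProduct

namespace Groth.Agent.RegDesc


theorem isNoetherianRing_tensor_essFiniteType (R K S : Type u) [CommRing R] [CommRing K] [CommRing S] [Algebra R K]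
    [Algebra R S] [IsNoetherianRing S] [Algebra.EssFiniteType R K] : IsNoetherianRing (K ⊗[R] S) := by
  haveI : IsNoetherianRing (S ⊗[R] K) := Algebra.EssFiniteType.isNoetherianRing S _
  exact isNoetherianRing_of_ringEquiv _ (Algebra.TensorProduct.comm R S K).toRingEquiv

theorem isNoetherianRing_tensor_finiteType (R K S : Type u) [CommRing R] [CommRing K] [CommRing S] [Algebra R K]
    [Algebra R S] [IsNoetherianRing K] [Algebra.FiniteType R S] : IsNoetherianRing (K ⊗[R] S) :=
  Algebra.FiniteType.isNoetherianRing K _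

/-- Regularity descends along flat maps, at a prime. -/
theorem isRegularLocalRing_comap_of_flat (R S : Type u) [CommRing R] [IsNoetherianRing R] [CommRing S] [Algebra R S]
    [Module.Flat R S] (q : Ideal S) [q.IsPrime] (h : IsRegularLocalRing (Localization.AtPrime q)) :
    IsRegularLocalRing (Localization.AtPrime (q.comap (algebraMap R S))) := by
  let p := q.comap (algebraMap R S)
  haveI : q.LiesOver p := ⟨rfl⟩
  letI : Algebra (Localization.AtPrime p) (Localization.AtPrime q) := Localization.AtPrime.algebraOfLiesOver p q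
  haveI : IsLocalHom (algebraMap (Localization.AtPrime p) (Localization.AtPrime q)) :=
    Localization.isLocalHom_localRingHom p q (algebraMap R S) (Ideal.over_def q p)
  haveI : Module.Flat (Localization.AtPrime p) (Localization.AtPrime q) := inferInstance
  haveI : IsNoetherianRing (Localization.AtPrime p) := IsLocalization.isNoetherianRing p.primeCompl _ inferInstance
  exact RegLocal.isRegularLocalRing_of_flat (Localization.AtPrime p) (Localization.AtPrime q)

/-- Regularity descends along faithfully flat maps. -/
theorem isRegularRing_of_faithfullyFlat (R S : Type u) [CommRing R] [IsNoetherianRing R] [CommRing S] [IsRegularRing S]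
    [Algebra R S] [Module.FaithfullyFlat R S] : IsRegularRing R := by
  refine isRegularRing_iff.2 fun p hp => ?_
  obtain ⟨⟨q, hq⟩, h⟩ := PrimeSpectrum.comap_surjective_of_faithfullyFlat (A := R) (B := S) ⟨p, hp⟩
  have h' : q.comap (algebraMap R S) = p := congrArg PrimeSpectrum.asIdeal h
  subst h'
  exact isRegularLocalRing_comap_of_flat R S q (IsRegularRing.isRegularLocalRing_localization q)

/-- Descent of regularity along a field extension. -/
theorem isRegularRing_field_descent (R K L B : Type u) [CommRing R] [Field K] [Field L] [CommRing B] [Algebra R K]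
    [Algebra R L] [Algebra K L] [IsScalarTower R K L] [Algebra R B] [IsNoetherianRing (K ⊗[R] B)]
    (h : IsRegularRing (L ⊗[R] B)) : IsRegularRing (K ⊗[R] B) := by
  haveI : IsRegularRing ((K ⊗[R] B) ⊗[K] L) := IsRegularRing.of_ringEquiv (R := L ⊗[R] B)
    ((Algebra.TensorProduct.comm K (K ⊗[R] B) L).toRingEquiv.trans
      (Algebra.TensorProduct.cancelBaseChange R K L L B).toRingEquiv).symm
  exact isRegularRing_of_faithfullyFlat (K ⊗[R] B) ((K ⊗[R] B) ⊗[K] L)

/-- Regularity after finite purely inseparable extensions gives regularity after every field extension. -/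
theorem isRegularRing_tensor_of_purelyInseparable {k A : Type u} [Field k] [CommRing A] [Algebra k A]
    [IsNoetherianRing A] (h : ∀ (k' : Type u) [Field k'] [Algebra k k'], Module.Finite k k' → IsPurelyInseparable k k' → IsRegularRing (k' ⊗[k] A)) (K : Type u) [Field K] [Algebra k K]
    [IsNoetherianRing (K ⊗[k] A)] : IsRegularRing (K ⊗[k] A) := by
  refine isRegularRing_iff.2 fun Q _ => ?_
  let q : Ideal A := Q.comap (Algebra.TensorProduct.includeRight : A →ₐ[k] K ⊗[k] A)
  haveI : q.IsPrime := Ideal.IsPrime.comap _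
  let Aq := Localization.AtPrime q
  haveI : IsNoetherianRing Aq := IsLocalization.isNoetherianRing q.primeCompl _ inferInstance
  obtain ⟨e, _⟩ := ExpChar.exists k
  have hq : CAlgX.IsAdicFormallySmooth k Aq (maximalIdeal Aq) := by
    rw [S4573.result e]
    intro k' _ _ hfin hpow
    haveI := h k' hfin ((isPurelyInseparable_iff_pow_mem k e).2 fun x => ⟨1, by rw [pow_one]; exact hpow x⟩)
    letI : Algebra A (k' ⊗[k] A) := Algebra.TensorProduct.rightAlgebra
    letI : Algebra (k' ⊗[k] A) (k' ⊗[k] Aq) :=
      (Algebra.TensorProduct.map (AlgHom.id k k') (IsScalarTower.toAlgHom k A Aq)).toRingHom.toAlgebra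
    haveI : IsLocalization (Algebra.algebraMapSubmonoid (k' ⊗[k] A) q.primeCompl) (k' ⊗[k] Aq) :=
      RegHomLib.isLocalization_tensor k k' A Aq q.primeCompl
    exact CyclicRootLib.isRegularRing_of_isLocalization (Algebra.algebraMapSubmonoid (k' ⊗[k] A) q.primeCompl) _
  letI : Algebra A (K ⊗[k] A) := Algebra.TensorProduct.rightAlgebra
  letI : Algebra (K ⊗[k] A) (K ⊗[k] Aq) :=
    (Algebra.TensorProduct.map (AlgHom.id k K) (IsScalarTower.toAlgHom k A Aq)).toRingHom.toAlgebra
  let M := Algebra.algebraMapSubmonoid (K ⊗[k] A) q.primeCompl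
  haveI : IsLocalization M (K ⊗[k] Aq) := RegHomLib.isLocalization_tensor k K A Aq q.primeCompl
  haveI : IsNoetherianRing (K ⊗[k] Aq) := IsLocalization.isNoetherianRing M _ inferInstance
  have hdisj : Disjoint (M : Set (K ⊗[k] A)) (Q : Set (K ⊗[k] A)) :=
    Set.disjoint_left.2 fun x ⟨s, hs, e⟩ hx => by subst e; exact hs hx
  let N := Q.map (algebraMap (K ⊗[k] A) (K ⊗[k] Aq))
  haveI hN : N.IsPrime := IsLocalization.isPrime_of_isPrime_disjoint M _ Q inferInstance hdisj
  haveI : IsNoetherianRing (Localization.AtPrime N) := IsLocalization.isNoetherianRing N.primeCompl _ inferInstance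
  have hNM : (maximalIdeal Aq).map (Algebra.TensorProduct.includeRight : Aq →ₐ[k] K ⊗[k] Aq) ≤ N := by
    rw [← Localization.AtPrime.map_eq_maximalIdeal, ← Ideal.map_coe (Algebra.TensorProduct.includeRight : Aq →ₐ[k] K ⊗[k] Aq),
      Ideal.map_map, Ideal.map_le_iff_le_comap]
    intro x hx
    refine Ideal.mem_comap.2 ?_
    have h1 : algebraMap (K ⊗[k] A) (K ⊗[k] Aq) ((1 : K) ⊗ₜ[k] x) ∈ N := Ideal.mem_map_of_mem _ hx
    simpa [RingHom.algebraMap_toAlgebra] using h1
  letI : Algebra K (K ⊗[k] Aq) := Algebra.TensorProduct.leftAlgebra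
  have hFS := RegHomLib.isAdicFormallySmooth_atPrime N (SymGrLib.isAdicFormallySmooth_baseChange hq K N hNM)
  have h2 : IsRegularLocalRing (Localization.AtPrime N) := (S2471.result.1 hFS).1
  have h1 := (RegLocLib.mem_regLocus_iff_of_isLocalization M (⟨N, hN⟩ : PrimeSpectrum (K ⊗[k] Aq))).1 h2
  have h3 : PrimeSpectrum.comap (algebraMap (K ⊗[k] A) (K ⊗[k] Aq)) ⟨N, hN⟩ = ⟨Q, inferInstance⟩ :=
    PrimeSpectrum.ext (IsLocalization.under_map_of_isPrime_disjoint M _ inferInstance hdisj)
  rw [h3] at h1
  exact h1


/-- A geometrically regular algebra stays regular after any Noetherian base change to a regular ring. -/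
theorem isRegularRing_tensor (k S T : Type u) [Field k] [CommRing S] [CommRing T] [Algebra k S] [Algebra k T]
    [IsRegularRing S] [IsNoetherianRing T] [IsNoetherianRing (S ⊗[k] T)] (hT : CAlg.IsGeometricallyRegular k T) :
    IsRegularRing (S ⊗[k] T) := by
  refine RegHomLib.isRegularRing_of_fibres S (S ⊗[k] T) fun p _ => ?_
  let e := (Algebra.TensorProduct.cancelBaseChange k S p.ResidueField p.ResidueField T).toRingEquiv
  haveI : IsNoetherianRing (p.ResidueField ⊗[S] (S ⊗[k] T)) := isNoetherianRing_tensor_essFiniteType S _ _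
  haveI : IsNoetherianRing (p.ResidueField ⊗[k] T) :=
    isNoetherianRing_of_ringEquiv (p.ResidueField ⊗[S] (S ⊗[k] T)) e
  haveI := RegHomLib.isRegularRing_tensor_of_geometricallyRegular hT p.ResidueField
  exact IsRegularRing.of_ringEquiv (R := p.ResidueField ⊗[k] T) e.symm

/-- A regular homomorphism stays regular after base change to any field with Noetherian result. -/
theorem regular_tensor_any_field {R Λ : Type u} [CommRing R] [CommRing Λ] [Algebra R Λ]
    (h : CAlg.IsRegularHom R Λ) (K : Type u) [Field K] [Algebra R K] [IsNoetherianRing (K ⊗[R] Λ)] :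
    IsRegularRing (K ⊗[R] Λ) := by
  let P : Ideal R := RingHom.ker (algebraMap R K)
  haveI : P.IsPrime := RingHom.ker_isPrime _
  let κ := P.ResidueField
  letI : Algebra κ K := (Ideal.ResidueField.lift P (algebraMap R K) le_rfl (fun x hx => by
    show IsUnit (algebraMap R K x)
    exact isUnit_iff_ne_zero.2 hx)).toAlgebra
  haveI : IsScalarTower R κ K := IsScalarTower.of_algebraMap_eq fun r =>
    (Ideal.ResidueField.lift_algebraMap P (algebraMap R K) _ _ r).symm
  haveI := (h.2 P).1
  let e := (Algebra.TensorProduct.cancelBaseChange R κ K K Λ).toRingEquiv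
  haveI : IsNoetherianRing (K ⊗[κ] (P.Fiber Λ)) := isNoetherianRing_of_ringEquiv (K ⊗[R] Λ) e.symm
  haveI := RegHomLib.isRegularRing_tensor_of_geometricallyRegular (h.2 P).2 K
  exact IsRegularRing.of_ringEquiv (R := K ⊗[κ] (P.Fiber Λ)) e

/-- A field which is geometrically reduced over `k` is geometrically regular. -/
theorem isGeometricallyRegular_of_geometricallyReduced (k L : Type u) [Field k] [Field L] [Algebra k L]
    [Algebra.IsGeometricallyReduced k L] : CAlg.IsGeometricallyRegular k L := by
  intro k' _ _ hfin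
  haveI := hfin
  letI : Algebra L (k' ⊗[k] L) := Algebra.TensorProduct.rightAlgebra
  haveI : Module.Finite L (k' ⊗[k] L) := Module.Finite.equiv (Algebra.TensorProduct.commRight k L k').toLinearEquiv
  haveI : IsArtinianRing (k' ⊗[k] L) := IsArtinianRing.of_finite L _
  haveI : IsReduced (k' ⊗[k] L) := inferInstance
  refine isRegularRing_iff.2 fun p _ => ?_
  haveI : IsReduced (Localization.AtPrime p) := inferInstance
  letI := (IsArtinianRing.isField_of_isReduced_of_isLocalRing (Localization.AtPrime p)).toField
  infer_instance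

/-- Regular homomorphisms are stable under Noetherian base change. -/
theorem isRegularHom_baseChange (A B A' : Type u) [CommRing A] [CommRing B] [CommRing A'] [Algebra A B]
    [Algebra A A'] [IsNoetherianRing (A' ⊗[A] B)] (h : CAlg.IsRegularHom A B) :
    CAlg.IsRegularHom A' (A' ⊗[A] B) := by
  haveI := h.1
  refine RegHomLib.isRegularHom_of_fields (fun p _ => isNoetherianRing_tensor_essFiniteType A' _ _) fun K _ _ _ hN => ?_
  letI : Algebra A K := ((algebraMap A' K).comp (algebraMap A A')).toAlgebra
  haveI : IsScalarTower A A' K := IsScalarTower.of_algebraMap_eq fun _ => rfl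
  let e := (Algebra.TensorProduct.cancelBaseChange A A' K K B).toRingEquiv
  haveI : IsNoetherianRing (K ⊗[A] B) := isNoetherianRing_of_ringEquiv (K ⊗[A'] (A' ⊗[A] B)) e
  haveI := regular_tensor_any_field h K
  exact IsRegularRing.of_ringEquiv (R := K ⊗[A] B) e.symm

theorem essFiniteType_field_of_quasiFinite (R K : Type u) [CommRing R] [Field K] [Algebra R K]
    [Algebra.QuasiFinite R K] : Algebra.EssFiniteType R K := by
  let P : Ideal R := RingHom.ker (algebraMap R K)
  haveI : P.IsPrime := RingHom.ker_isPrime _
  let κ := P.ResidueField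
  letI : Algebra κ K := (Ideal.ResidueField.lift P (algebraMap R K) le_rfl (fun x hx => by
    show IsUnit (algebraMap R K x)
    exact isUnit_iff_ne_zero.2 hx)).toAlgebra
  haveI : IsScalarTower R κ K := IsScalarTower.of_algebraMap_eq fun r =>
    (Ideal.ResidueField.lift_algebraMap P (algebraMap R K) _ _ r).symm
  haveI : Algebra.QuasiFinite κ K := Algebra.QuasiFinite.of_restrictScalars R κ K
  haveI : Module.Finite κ K := Module.Finite.of_quasiFinite
  exact Algebra.EssFiniteType.comp R κ K

/-- Composites of regular homomorphisms are regular. -/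
theorem isRegularHom_comp (A B C : Type u) [CommRing A] [CommRing B] [CommRing C] [IsNoetherianRing B]
    [IsNoetherianRing C] [Algebra A B] [Algebra B C] [Algebra A C] [IsScalarTower A B C]
    (hAB : CAlg.IsRegularHom A B) (hBC : CAlg.IsRegularHom B C) : CAlg.IsRegularHom A C := by
  haveI := hAB.1
  haveI := hBC.1
  haveI : Module.Flat A C := Module.Flat.trans A B C
  refine RegHomLib.isRegularHom_of_fields (fun p _ => isNoetherianRing_tensor_essFiniteType A _ _) fun K _ _ _ _ => ?_
  haveI : Algebra.EssFiniteType A K := essFiniteType_field_of_quasiFinite A K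
  haveI : IsNoetherianRing (B ⊗[A] K) := Algebra.EssFiniteType.isNoetherianRing B _
  haveI : IsNoetherianRing (K ⊗[A] B) := isNoetherianRing_of_ringEquiv (B ⊗[A] K) (Algebra.TensorProduct.comm A B K).toRingEquiv
  haveI := regular_tensor_any_field hAB K
  haveI : IsRegularRing (B ⊗[A] K) := IsRegularRing.of_ringEquiv (R := K ⊗[A] B) (Algebra.TensorProduct.comm A K B).toRingEquiv
  haveI : IsNoetherianRing ((B ⊗[A] K) ⊗[B] C) := isNoetherianRing_tensor_essFiniteType B _ _
  have h1 := isRegularHom_baseChange B C (B ⊗[A] K) hBC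
  haveI := h1.1
  haveI : IsRegularRing ((B ⊗[A] K) ⊗[B] C) := RegHomLib.isRegularRing_of_fibres (B ⊗[A] K) _ fun P _ => by
    haveI := (h1.2 P).1
    exact regular_tensor_any_field h1 P.ResidueField
  exact IsRegularRing.of_ringEquiv (R := (B ⊗[A] K) ⊗[B] C)
    ((Algebra.TensorProduct.comm B (B ⊗[A] K) C).toRingEquiv.trans
      ((Algebra.TensorProduct.cancelBaseChange A B C C K).toRingEquiv.trans (Algebra.TensorProduct.comm A C K).toRingEquiv))

/-- Regularity descends to the middle of a composite whose second map is faithfully flat. -/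
theorem isRegularHom_of_comp (A B C : Type u) [CommRing A] [CommRing B] [CommRing C] [IsNoetherianRing B]
    [Algebra A B] [Algebra B C] [Algebra A C] [IsScalarTower A B C] [Module.FaithfullyFlat B C]
    (h : CAlg.IsRegularHom A C) : CAlg.IsRegularHom A B := by
  haveI := h.1
  haveI : Module.Flat A B := FlatDescStalk.flat_of_comp_faithfullyFlat A B C
  refine RegHomLib.isRegularHom_of_fields (fun p _ => isNoetherianRing_tensor_essFiniteType A _ _) fun K _ _ _ hN => ?_
  haveI : IsNoetherianRing (B ⊗[A] K) := isNoetherianRing_of_ringEquiv _ (Algebra.TensorProduct.comm A K B).toRingEquiv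
  haveI := (RegHomLib.regular_tensor_field h K).2
  haveI : IsRegularRing ((B ⊗[A] K) ⊗[B] C) := IsRegularRing.of_ringEquiv (R := K ⊗[A] C)
    ((Algebra.TensorProduct.comm B (B ⊗[A] K) C).toRingEquiv.trans
      ((Algebra.TensorProduct.cancelBaseChange A B C C K).toRingEquiv.trans (Algebra.TensorProduct.comm A C K).toRingEquiv)).symm
  haveI := isRegularRing_of_faithfullyFlat (B ⊗[A] K) ((B ⊗[A] K) ⊗[B] C)
  exact IsRegularRing.of_ringEquiv (R := B ⊗[A] K) (Algebra.TensorProduct.comm A B K).toRingEquiv

end Groth.Agent.RegDesc
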